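import Mathlib

/-!
# Cocycles with constant coefficients on a family of `2`-subgroups (for S5242, local theorem, `p = 2`)

`H` finite, `T` a Sylow `2`-subgroup, `W` a family of subgroups, upward closed in `T`, conjugation invariant in `T`.
A cocycle `e : H → ZMod 2` on `W`, trivial on `T`, is zero on `W`.
-/

set_option autoImplicit false

namespace Cfsg.Agent.H475.FX

open MulAction

/-- conjugate subgroup `g P g⁻¹` -/
abbrev cj {G : Type*} [Group G] (g : G) (P : Subgroup G) : Subgroup G :=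
  P.map (MulAut.conj g).toMonoidHom

theorem mem_cj {G : Type*} [Group G] {g x : G} {P : Subgroup G} : x ∈ cj g P ↔ g⁻¹ * x * g ∈ P := by
  constructor
  · rintro ⟨y, hy, rfl⟩
    have h1 : g⁻¹ * ((MulAut.conj g).toMonoidHom y) * g = y := by
      simp only [MulEquiv.coe_toMonoidHom, MulAut.conj_apply]; group
    rw [h1]; exact hy
  · intro h
    exact ⟨g⁻¹ * x * g, h, by simp only [MulEquiv.coe_toMonoidHom, MulAut.conj_apply]; group⟩

theorem cj_one {G : Type*} [Group G] (P : Subgroup G) : cj 1 P = P := by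
  ext x; rw [mem_cj]; simp

theorem cj_mul {G : Type*} [Group G] (g h : G) (P : Subgroup G) : cj (g * h) P = cj g (cj h P) := by
  ext x; rw [mem_cj, mem_cj, mem_cj]
  have h1 : (g * h)⁻¹ * x * (g * h) = h⁻¹ * (g⁻¹ * x * g) * h := by group
  rw [h1]

theorem cj_inf {G : Type*} [Group G] (g : G) (P Q : Subgroup G) : cj g (P ⊓ Q) = cj g P ⊓ cj g Q := by
  ext x; simp only [Subgroup.mem_inf, mem_cj]

theorem cj_mono {G : Type*} [Group G] (g : G) {P Q : Subgroup G} (h : P ≤ Q) : cj g P ≤ cj g Q :=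
  Subgroup.map_mono h

theorem cj_self {G : Type*} [Group G] {t : G} {P : Subgroup G} (h : t ∈ P) : cj t P = P := by
  ext x; rw [mem_cj]
  constructor
  · intro hx
    have : x = t * (t⁻¹ * x * t) * t⁻¹ := by group
    rw [this]; exact P.mul_mem (P.mul_mem h hx) (P.inv_mem h)
  · intro hx; exact P.mul_mem (P.mul_mem (P.inv_mem h) hx) h

theorem cj_le_iff {G : Type*} [Group G] (g : G) (P Q : Subgroup G) : cj g P ≤ Q ↔ P ≤ cj g⁻¹ Q := by
  constructor
  · intro h x hx
    rw [mem_cj]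
    have h1 : g⁻¹⁻¹ * x * g⁻¹ = g * x * g⁻¹ := by group
    rw [h1]; apply h; rw [mem_cj]
    have h2 : g⁻¹ * (g * x * g⁻¹) * g = x := by group
    rw [h2]; exact hx
  · intro h x hx
    rw [mem_cj] at hx
    have h1 := h hx
    rw [mem_cj] at h1
    have h2 : g⁻¹⁻¹ * (g⁻¹ * x * g) * g⁻¹ = x := by group
    rwa [h2] at h1

theorem zmod2_ite : ∀ x : ZMod 2, x = if x = 1 then 1 else 0 := by decide

theorem zmod2_ne (h : (0 : ZMod 2) = 1) : False := by revert h; decide

theorem const_coc {H : Type*} [Group H] [Finite H] (T : Sylow 2 H) (W : Set (Subgroup H))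
    (hup : ∀ P ∈ W, ∀ Q : Subgroup H, Q ≤ (T : Subgroup H) → P ≤ Q → Q ∈ W)
    (hconj : ∀ (g : H) (P : Subgroup H), P ∈ W → P ≤ (T : Subgroup H) → cj g P ≤ (T : Subgroup H) → cj g P ∈ W)
    (e : H → ZMod 2)
    (he : ∀ a b : H, (T : Subgroup H) ⊓ cj a T ⊓ cj (a * b) T ∈ W → e (a * b) = e a + e b)
    (ht : (T : Subgroup H) ∈ W → ∀ t ∈ (T : Subgroup H), e t = 0) :
    ∀ h : H, (T : Subgroup H) ⊓ cj h T ∈ W → e h = 0 := by
  classical
  intro h hh
  have : Fact (Nat.Prime 2) := ⟨Nat.prime_two⟩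
  have hT : (T : Subgroup H) ∈ W := hup _ hh _ le_rfl inf_le_left
  have ht' := ht hT
  -- right invariance
  have hr : ∀ y t : H, t ∈ (T : Subgroup H) → (T : Subgroup H) ⊓ cj y T ∈ W → e (y * t) = e y := by
    intro y t htT hy
    have h1 : cj (y * t) (T : Subgroup H) = cj y T := by rw [cj_mul, cj_self htT]
    rw [he y t (by rw [h1, inf_assoc, inf_idem]; exact hy), ht' t htT, add_zero]
  have hl : ∀ y t : H, t ∈ (T : Subgroup H) → (T : Subgroup H) ⊓ cj y T ∈ W → e (t * y) = e y := by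
    intro y t htT hy
    have h1 : cj t (T : Subgroup H) = T := cj_self htT
    have h2 : (T : Subgroup H) ⊓ cj (t * y) T = cj t ((T : Subgroup H) ⊓ cj y T) := by
      rw [cj_inf, cj_mul, h1]
    rw [he t y (by
      rw [h1, inf_idem, h2]
      exact hconj _ _ hy inf_le_left (by rw [← h2]; exact inf_le_left)), ht' t htT, zero_add]
  -- the function `E`
  let E : H → ZMod 2 := fun y => if (T : Subgroup H) ⊓ cj y T ∈ W then e y else 0
  have hEr : ∀ y t : H, t ∈ (T : Subgroup H) → E (y * t) = E y := by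
    intro y t htT
    have h1 : cj (y * t) (T : Subgroup H) = cj y T := by rw [cj_mul, cj_self htT]
    simp only [E, h1]
    split_ifs with hc
    · exact hr y t htT hc
    · rfl
  have hEl : ∀ y t : H, t ∈ (T : Subgroup H) → E (t * y) = E y := by
    intro y t htT
    have h1 : cj t (T : Subgroup H) = T := cj_self htT
    have h2 : (T : Subgroup H) ⊓ cj (t * y) T = cj t ((T : Subgroup H) ⊓ cj y T) := by
      rw [cj_inf, cj_mul, h1]
    have h3 : (T : Subgroup H) ⊓ cj (t * y) T ∈ W ↔ (T : Subgroup H) ⊓ cj y T ∈ W := by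
      constructor
      · intro hc
        have h4 : (T : Subgroup H) ⊓ cj y T = cj t⁻¹ ((T : Subgroup H) ⊓ cj (t * y) T) := by
          rw [h2, ← cj_mul, inv_mul_cancel, cj_one]
        rw [h4]
        exact hconj _ _ hc inf_le_left (by rw [← h4]; exact inf_le_left)
      · intro hc
        rw [h2]
        exact hconj _ _ hc inf_le_left (by rw [← h2]; exact inf_le_left)
    by_cases hc : (T : Subgroup H) ⊓ cj y T ∈ W
    · simp only [E, if_pos hc, if_pos (h3.mpr hc)]
      exact hl y t htT hc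
    · simp only [E, if_neg hc, if_neg (fun hc' => hc (h3.mp hc'))]
  let E1 : H ⧸ (T : Subgroup H) → ZMod 2 := Quotient.lift E (by
    intro a b hab
    have h1 : a⁻¹ * b ∈ (T : Subgroup H) := QuotientGroup.leftRel_apply.mp hab
    have h2 := hEr a (a⁻¹ * b) h1
    rw [mul_inv_cancel_left] at h2
    exact h2.symm)
  have hE1 : ∀ y : H, E1 (y : H ⧸ (T : Subgroup H)) = E y := fun y => rfl
  let P : Subgroup H := (T : Subgroup H) ⊓ cj h T
  have hPT : P ≤ (T : Subgroup H) := inf_le_left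
  have hP2 : IsPGroup 2 P := T.isPGroup'.to_le hPT
  let F : H ⧸ (T : Subgroup H) → ZMod 2 := fun q => E1 q - E1 (h⁻¹ • q) - e h
  have hFinv : ∀ (t : H), t ∈ P → ∀ q, F (t • q) = F q := by
    intro t htP q
    obtain ⟨y, rfl⟩ := QuotientGroup.mk_surjective q
    have h1 : E1 (t • (y : H ⧸ (T : Subgroup H))) = E1 (y : H ⧸ (T : Subgroup H)) := hEl y t (hPT htP)
    have h2 : h⁻¹ * t * h ∈ (T : Subgroup H) := mem_cj.mp htP.2
    have h3 : E1 (h⁻¹ • t • (y : H ⧸ (T : Subgroup H))) = E1 (h⁻¹ • (y : H ⧸ (T : Subgroup H))) := by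
      have h4 := hEl (h⁻¹ * y) _ h2
      have h5 : h⁻¹ * t * h * (h⁻¹ * y) = h⁻¹ * (t * y) := by group
      rw [h5] at h4
      exact h4
    simp only [F, h1, h3]
  have hFfix : ∀ q : H ⧸ (T : Subgroup H), (∀ t ∈ P, t • q = q) → F q = 0 := by
    intro q hq
    obtain ⟨y, rfl⟩ := QuotientGroup.mk_surjective q
    have h1 : P ≤ cj y T := by
      intro t htP
      rw [mem_cj]
      have h2 := hq t htP
      have h3 : ((t * y : H) : H ⧸ (T : Subgroup H)) = (y : H) := h2
      have h4 := QuotientGroup.eq.mp h3.symm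
      have h5 : y⁻¹ * t * y = y⁻¹ * (t * y) := by group
      rw [h5]; exact h4
    -- the cocycle relation for `h * (h⁻¹ y) = y`
    have hPy : (T : Subgroup H) ⊓ cj y T ∈ W := hup P hh _ inf_le_left (le_inf hPT h1)
    have hP3 : (T : Subgroup H) ⊓ cj h T ⊓ cj (h * (h⁻¹ * y)) T ∈ W := by
      rw [mul_inv_cancel_left]
      exact hup P hh _ (inf_le_left.trans inf_le_left) (le_inf le_rfl h1)
    have h6 := he h (h⁻¹ * y) hP3
    rw [mul_inv_cancel_left] at h6
    have h7 : (T : Subgroup H) ⊓ cj (h⁻¹ * y) T ∈ W := by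
      have h8 : cj h⁻¹ P ≤ (T : Subgroup H) := by
        rw [cj_le_iff, inv_inv]; exact inf_le_right
      refine hup _ (hconj h⁻¹ P hh hPT h8) _ inf_le_left (le_inf h8 ?_)
      rw [cj_mul]; exact cj_mono _ h1
    show E1 (y : H ⧸ (T : Subgroup H)) - E1 ((h⁻¹ * y : H) : H ⧸ (T : Subgroup H)) - e h = 0
    rw [hE1, hE1]
    simp only [E, if_pos hPy, if_pos h7]
    rw [h6]; ring
  -- parity
  have : Fintype (H ⧸ (T : Subgroup H)) := Fintype.ofFinite _
  have hsum : ∑ q : H ⧸ (T : Subgroup H), F q = 0 := by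
    have h01 : ∀ q, F q = if F q = 1 then 1 else 0 := by
      intro q
      exact zmod2_ite _
    rw [Finset.sum_congr rfl (fun q _ => h01 q), Finset.sum_boole]
    -- the set of points with `F = 1` is `P`-invariant without fixed points
    let Y := {q : H ⧸ (T : Subgroup H) // F q = 1}
    let act : MulAction P Y :=
      { smul := fun t q => ⟨(t : H) • q.1, by rw [hFinv _ t.2]; exact q.2⟩
        one_smul := fun q => Subtype.ext (one_smul H q.1)
        mul_smul := fun a b q => Subtype.ext (mul_smul (a : H) (b : H) q.1) }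
    have hc := hP2.card_modEq_card_fixedPoints Y
    have hfp : IsEmpty (fixedPoints P Y) := by
      refine ⟨fun q => ?_⟩
      have h1 : F q.1.1 = 0 := hFfix q.1.1 (fun t htP => congrArg Subtype.val (q.2 ⟨t, htP⟩))
      have h2 : F q.1.1 = 1 := q.1.2
      rw [h1] at h2; exact zmod2_ne h2
    rw [@Nat.card_of_isEmpty _ hfp] at hc
    have h3 : (Nat.card Y : ZMod 2) = 0 := by
      have := (ZMod.natCast_eq_natCast_iff (Nat.card Y) 0 2).mpr hc
      simpa using this
    have h4 : Nat.card Y = (Finset.univ.filter (fun q => F q = 1)).card := by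
      rw [Nat.card_eq_fintype_card, Fintype.card_subtype]
    rw [← h4]; exact h3
  have hsum2 : ∑ q : H ⧸ (T : Subgroup H), F q = - ((Nat.card (H ⧸ (T : Subgroup H)) : ZMod 2) * e h) := by
    simp only [F, Finset.sum_sub_distrib]
    have h1 : ∑ q : H ⧸ (T : Subgroup H), E1 (h⁻¹ • q) = ∑ q : H ⧸ (T : Subgroup H), E1 q :=
      Fintype.sum_equiv (MulAction.toPerm h⁻¹) _ _ (fun q => rfl)
    rw [h1, sub_self, zero_sub, Finset.sum_const, Finset.card_univ, nsmul_eq_mul, Nat.card_eq_fintype_card]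
  have hodd : (Nat.card (H ⧸ (T : Subgroup H)) : ZMod 2) = 1 := by
    have h1 : ¬ 2 ∣ (T : Subgroup H).index := T.not_dvd_index
    have h2 : Nat.card (H ⧸ (T : Subgroup H)) = (T : Subgroup H).index := rfl
    rw [h2]
    have h3 : Odd (T : Subgroup H).index := Nat.not_even_iff_odd.mp (fun h => h1 h.two_dvd)
    exact (ZMod.natCast_eq_one_iff_odd).mpr h3
  rw [hsum, hodd, one_mul] at hsum2
  exact (neg_eq_zero.mp hsum2.symm)

end Cfsg.Agent.H475.FX
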